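import Cfsg.Agent.Lib.Mult.Glue
import Cfsg.Agent.Lib.Grp.G23.Main

set_option autoImplicit false
set_option maxRecDepth 100000
set_option Elab.async false

namespace Cfsg.Agent.Mult.G23

open Cfsg.Agent.CG Cfsg.Agent.CG.G23

noncomputable def p2T : ℕ := 0x30060600c0c0181803030060600c000000000028060500c0a018d40602806000000000018031a00c0400c68030100300000000000000000001580c330180601800000000000000000001403d10120200c000000000000000000000000180300806000000000000000000000000000000000
noncomputable def p2q1 : ℕ := 0x1800280040006000800300050008000c0008006000a00100018001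
noncomputable def p2q2 : ℕ := 0x1401a8002005606880030d630042358401a0006d63200100148031
noncomputable def p2NF : ℕ := 0x1000000001000000000000000000000000000000000000000000000000000000000000000000000000000000000000000000000000000000000000000000000000000000000000000000000000000000000000000000000000000000000000000000000000000000000000000000000000000000000000000000000000000000000000000000000000000000000000000000000000000000000000000000000000000000000000000000000000000000000000000000000000000000000000000000000000000000000000000000000000000000000000000000000000000000000000000000000000000000000001000000000000000000000000000000000000000040000000000000000000000000000000000040000000000000000000000000000000000000000000000000000000000000000000000000000000000200000000000000000200000000000000000001008000000000000000000040000000000000000000000000000000000000000000000000000000000000000000000000000000000001000000000000000000000040000000000000000000001000000000000000000000000000000000000000000000000000000000000000000000000000000000000000000000000000000000000000000000000000200000000000000000000008000000000000000000000000000000000000000000000000000000000000000000000000000000000000000000000000000000000000000000000000000000000000000000000008000000000000000000000000000000000000000000000000000000000000000000000000000000000000000000000000000000000000000000000000000000000000000000000000000000000000000000000000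
noncomputable def p2mNF : ℕ := 0x1ffffffffffffffffffff
noncomputable def p2gv : ℕ := 0x8000000008000000000000000000040200008000000000000201008000200008000001008040200000000001008000200000000000000000001
noncomputable def p2mgv : ℕ := 0x1ffffffffffffffffffff
noncomputable def p2av : ℕ := 0x1000000000000000001000000000000000000000040001000000000000000000000000000000000000000000000000000000000000000000000000000000000000000000
noncomputable def p2mav : ℕ := 0x1ffffffffffffffffffff
noncomputable def p2mu : ℕ := 0x1000001000400000000000500400100500000000000000141000000000000000000000111000000000000000000000544000000000000000000000000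
noncomputable def p2om : ℕ := 0x0
noncomputable def p2tm : ℕ := 0x7e49249249249245649249051021870249090c804c92490a38d2e49249144d292492491142492492490f924924924924
noncomputable def p2par : ℕ := 0x182e5880f1091026
noncomputable def p2z : Desc := ⟨0,0,0,0,[],[]⟩
noncomputable def p2ds : Tr Desc := (.node (.node (.node (.node (.node (.node (.leaf p2z) (.leaf ⟨0,1,0,0,[],[]⟩)) (.node (.leaf ⟨0,5,0,0,[],[]⟩) (.leaf ⟨1,0x5,5,1,[],[]⟩))) (.node (.node (.leaf ⟨0,3,0,0,[],[]⟩) (.leaf ⟨1,0x3,3,2,[],[]⟩)) (.node (.leaf ⟨0,8,0,0,[],[]⟩) (.leaf p2z)))) (.node (.node (.node (.leaf p2z) (.leaf ⟨0,2,0,0,[],[]⟩)) (.node (.leaf p2z) (.leaf p2z))) (.node (.node (.leaf p2z) (.leaf ⟨1,0x4,4,2,[],[]⟩)) (.node (.leaf p2z) (.leaf p2z))))) (.node (.node (.node (.node (.leaf p2z) (.leaf p2z)) (.node (.leaf p2z) (.leaf p2z))) (.node (.node (.leaf p2z) (.leaf p2z)) (.node (.leaf p2z) (.leaf p2z)))) (.node (.node (.node (.leaf p2z) (.leaf ⟨0,0,0,0,[],[]⟩)) (.node (.leaf ⟨0,6,0,0,[],[]⟩) (.leaf p2z))) (.node (.node (.leaf p2z) (.leaf ⟨1,0x4,4,4,[],[]⟩)) (.node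 (.leaf ⟨1,0x2,2,1,[],[]⟩) (.leaf p2z)))))) (.node (.node (.node (.node (.node (.leaf p2z) (.leaf p2z)) (.node (.leaf p2z) (.leaf p2z))) (.node (.node (.leaf p2z) (.leaf p2z)) (.node (.leaf p2z) (.leaf p2z)))) (.node (.node (.node (.leaf p2z) (.leaf ⟨1,0x2,2,2,[],[]⟩)) (.node (.leaf p2z) (.leaf ⟨2,0,0,0,[2,2],[4]⟩))) (.node (.node (.leaf p2z) (.leaf ⟨1,0x4,3,3,[],[]⟩)) (.node (.leaf ⟨1,0x2,1,1,[],[]⟩) (.leaf p2z))))) (.node (.node (.node (.node (.leaf p2z) (.leaf p2z)) (.node (.leaf p2z) (.leaf p2z))) (.node (.node (.leaf p2z) (.leaf ⟨1,0x1,1,1,[],[]⟩)) (.node (.leaf p2z) (.leaf p2z)))) (.node (.node (.node (.leaf p2z) (.leaf ⟨1,0x4,2,2,[],[]⟩)) (.node (.leaf ⟨0,7,0,0,[],[]⟩) (.leaf p2z))) (.node (.node (.leaf ⟨0,4,0,0,[],[]⟩) (.leaf ⟨1,0x6,2,2,[],[]⟩)) (.node (.leaf ⟨1,0x3,2,1,[],[]⟩) (.leaf ⟨2,2,0,0,[2,2],[4]⟩)))))))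
noncomputable def p2rd : Tr Desc := (.node (.node (.node (.leaf ⟨2,2,0,0,[4,4],[]⟩) (.leaf ⟨2,0,0,0,[2,1],[1,2,4]⟩)) (.leaf ⟨2,2,0,0,[2,1],[1,2,4]⟩)) (.node (.node (.leaf ⟨2,0,0,0,[1,1],[]⟩) (.leaf ⟨2,0,0,0,[1,0],[0,1,4]⟩)) (.leaf ⟨2,1,0,0,[3,3],[]⟩)))
noncomputable def D2 : Dat where
  p := 2
  q := 2
  n1 := 7
  b := 3
  fl := 5
  ew := 19
  T := p2T
  w := 9
  fuel := 21
  nf := 3
  cm := 5
  q1 := fun x => look 0x7fff p2q1 (Nat.mul 15 x)
  q2 := fun x => look 0x7fff p2q2 (Nat.mul 15 x)
  NV := 64
  d := 9
  w2 := 9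
  NF := fun x => look p2mNF p2NF (Nat.mul 81 x)
  tm := fun x => look 0x3f p2tm (Nat.mul 6 x)
  TM := 36
  par := fun x => look 0x7f p2par (Nat.mul 7 x)
  ds := fun x => p2ds.get x
  r := 6
  s0 := 0
  gv := fun x => look p2mgv p2gv (Nat.mul 81 x)
  rd := fun x => p2rd.get x
  av := fun x => look p2mav p2av (Nat.mul 81 x)
  mw := 2
  mu := fun x => look 0xfff p2mu (Nat.mul 12 x)
  ms := []
  om := fun x => look 0xfff p2om (Nat.mul 12 x)
noncomputable def p2w1 : List (List ℕ) := [[47,18,0,15],
  [13,11,0,17,25,28,35],
  [4,0,3,17,45,33,35],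
  [28,0,3,15,48,45,28,36],
  [28,1,20,23,31,35],
  [16,3,20,15,24,32,36],
  [13,16,1,47,21,33,27,36],
  [27,1,0,27,16,26],
  [46,3,48,16,24,31,35]]
noncomputable def p2w2 : List (List ℕ) := [[1],
  [2],
  [3],
  [4],
  [5],
  [6]]
noncomputable def p2L0c : ℕ := 0x782b4070c0b00b4823d027c14401b021c07d815e02b41e304700860
noncomputable def p2L0p : ℕ := 0x1c0060014004000c0020004000000c002000400000040000000000
noncomputable def p2L0l : ℕ := 0x4001000400100040010004001000c003000c00300100040018000
noncomputable def p2L0q : ℕ := 0x28000000000600040020000000003c009000000000000000000000001400c0000000001c00e00000000000000000000d0000008000c00b0000004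
noncomputable def p2L1c : ℕ := 0xad001e02c01c30
noncomputable def p2L1p : ℕ := 0x40000000000
noncomputable def p2L1l : ℕ := 0x80020014000
noncomputable def p2L1q : ℕ := 0xc00200000010000000
noncomputable def p2L : List Lvl := [mkLvl 2144 [6,4,3,1] 16 14 p2L0c p2L0p p2L0l 35 p2L0q,
  mkLvl 7216 [5,2] 4 14 p2L1c p2L1p p2L1l 7 p2L1q]

theorem p2c0 : okcb 728 16 (bases p2L) = true := by decide +kernel
theorem p2c1 : D2.chkNum 0 6 4245696 p2w2 p2L = true := by decide +kernel
theorem p2c2 : headAll (appW (appW app p2w1) p2w2) p2L [] = true := by decide +kernel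
theorem p2c3 : allL (fun l => l.chk (appW (appW app p2w1) p2w2) 1 (l.N - 1)) p2L = true := by decide +kernel
theorem p2c4 : D2.chkPc (appW app p2w1) bs 0 49 = true := by decide +kernel
theorem p2c5 : D2.chkFus (appW app p2w1) bs 0 15 = true := by decide +kernel
theorem p2c6 : D2.chkHead = true := by decide +kernel
theorem p2c7 : D2.chkVars 0 64 = true := by decide +kernel
theorem p2c8 : D2.chkRhos 0 6 = true := by decide +kernel
theorem p2c9 : D2.chkEnts 0 49 = true := by decide +kernel

theorem pb2 : PB PG 2 [] :=
  Dat.pbA (D := D2) base card (by norm_num : Nat.Prime 2) (okc_of_okcb p2c0) p2c1 p2c2 p2c3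
    p2c4
    p2c5
    p2c6 p2c7
    p2c8
    p2c9

end Cfsg.Agent.Mult.G23
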